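import Mathlib
import Groth.Prelude.Def_Pic
import Groth.Agent.DescAppLib.RigApps
import Groth.Agent.ConsLib.FGSystem
import Groth.Agent.LimLocFreeLib.Main
import Groth.Agent.LimHomLib.Descend
import Groth.Agent.TwistLib.SpecSections
import Groth.Agent.GenDescLib.LocFree

/-!
# Classes of line bundles on `X_K` for an algebraic extension `K/k`

Injectivity of pullback along field extensions when `H⁰(X, O) = k`, and the fact that every class on
`X_K` comes from a finite subextension.
-/

set_option autoImplicit false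
set_option maxHeartbeats 1600000
set_option maxRecDepth 8000
set_option linter.style.haveILetI false
set_option backward.isDefEq.respectTransparency false
universe u

open CategoryTheory CategoryTheory.Limits AlgebraicGeometry
open CubeConsLib (pull pull_comp pull_cl cl_eq_iff cl_eq_one_iff cl_tensor exists_inverse IsoCls)

noncomputable section

namespace PicFldDescLib

variable {X Y : Scheme.{u}}

/-- The isomorphism class attached to a Picard class. -/
def toI : PicF.Cl X → IsoCls X := Quot.lift CubeConsLib.cl fun _ _ h => cl_eq_iff.2 h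

theorem toI_cl (M : X.Modules) : toI (PicF.cl M) = CubeConsLib.cl M := rfl

theorem toI_pullCl (g : Y ⟶ X) (c : PicF.Cl X) : toI (PicF.pullCl g c) = pull g (toI c) := by
  induction c using Quot.ind with
  | _ M => rfl

theorem toI_injective : Function.Injective (toI (X := X)) := fun a b h => by
  induction a using Quot.ind with
  | _ M =>
    induction b using Quot.ind with
    | _ N => exact Quot.sound (cl_eq_iff.1 h)

theorem tensorPow_eq_pow (L : X.Modules) :
    ∀ n : ℕ, CubeConsLib.cl (CohB1.tensorPow L n) = CubeConsLib.cl L ^ n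
  | 0 => by rw [pow_zero]; rfl
  | n + 1 => by rw [pow_succ, ← tensorPow_eq_pow L n]; rfl

/-- Invertible modules on the spectrum of a field are trivial. -/
theorem cl_spec_field (K : Type u) [Field K] {M : (Spec (CommRingCat.of K)).Modules}
    (hM : PicF.IsInvertible M) : CubeConsLib.cl M = 1 :=
  haveI : Subsingleton (Spec (CommRingCat.of K)) := inferInstanceAs (Subsingleton (PrimeSpectrum K))
  haveI : Nonempty (Spec (CommRingCat.of K)) := inferInstanceAs (Nonempty (PrimeSpectrum K))
  cl_eq_one_iff.2 (CohCmpLib.nonempty_iso_structureModule_of_point ((CohCmpLib.invertible_iff_rank_one _).1 hM))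

/-- `Γ = k` gives bijectivity on all opens. -/
theorem bij_app (k : Type u) [Field k] (f : X ⟶ Spec (CommRingCat.of k))
    (h : Function.Bijective f.appTop) (U : (Spec (CommRingCat.of k)).Opens) : Function.Bijective (f.app U) := by
  haveI : Subsingleton (Spec (CommRingCat.of k)) := inferInstanceAs (Subsingleton (PrimeSpectrum k))
  by_cases hU : U = ⊤
  · subst hU; exact h
  · have hb : U = ⊥ := by
      ext x
      refine ⟨fun hx => hU (TopologicalSpace.Opens.ext (Set.ext fun y => ⟨fun _ => trivial, fun _ => ?_⟩)),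
        fun h => h.elim⟩
      rwa [Subsingleton.elim y x]
    subst hb
    haveI : Subsingleton Γ(Spec (CommRingCat.of k), ⊥) :=
      CommRingCat.subsingleton_of_isTerminal ((Spec (CommRingCat.of k)).sheaf.isTerminalOfEmpty)
    haveI : Subsingleton Γ(X, f ⁻¹ᵁ ⊥) := by
      have : f ⁻¹ᵁ (⊥ : (Spec (CommRingCat.of k)).Opens) = ⊥ := Scheme.Hom.preimage_bot f
      rw [this]
      exact CommRingCat.subsingleton_of_isTerminal X.sheaf.isTerminalOfEmpty
    exact ⟨Function.injective_of_subsingleton _, fun y => ⟨0, Subsingleton.elim _ _⟩⟩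

/-- A morphism between spectra of fields covers. -/
theorem mem_fpqc_field {k K : Type u} [Field k] [Field K] (g : Spec (CommRingCat.of K) ⟶ Spec (CommRingCat.of k)) :
    Flat g ∧ Surjective g ∧ QuasiCompact g := by
  obtain ⟨φ, rfl⟩ : ∃ φ, g = Spec.map φ := ⟨_, (Spec.map_preimage g).symm⟩
  refine ⟨?_, ⟨fun x => ⟨default, ?_⟩⟩, inferInstance⟩
  · refine (HasRingHomProperty.Spec_iff (P := @Flat)).2 ?_
    algebraize [φ.hom]
    exact RingHom.flat_algebraMap_iff.2 inferInstance
  · exact Subsingleton.elim (α := PrimeSpectrum k) _ _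

/-- Pullback along a field extension is injective on classes, when `H⁰ = k`. -/
theorem inj {k : Type u} [Field k] (f : X ⟶ Spec (CommRingCat.of k)) [QuasiCompact f] [QuasiSeparated f]
    (hH : Function.Bijective f.appTop) {K : Type u} [Field K] {g : Spec (CommRingCat.of K) ⟶ Spec (CommRingCat.of k)}
    {c : Y ⟶ X} {q : Y ⟶ Spec (CommRingCat.of K)} (H : IsPullback c q f g) {L L' : X.Modules}
    (hL : PicF.IsInvertible L) (hL' : PicF.IsInvertible L')
    (h : pull c (CubeConsLib.cl L) = pull c (CubeConsLib.cl L')) : CubeConsLib.cl L = CubeConsLib.cl L' := by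
  let D := CohB1.tensorMod L (MiscFlat6.dual L')
  let d := CubeConsLib.cl (MiscFlat6.dual L')
  have hd : CubeConsLib.cl L' * d = 1 := cl_eq_one_iff.2 (MiscFlat6.nonempty_dualIso hL')
  have hD : CubeConsLib.cl D = CubeConsLib.cl L * d := rfl
  have hk : pull c (CubeConsLib.cl D) = pull q 1 := by
    rw [map_one, hD, map_mul, h, ← map_mul, hd, map_one]
  obtain ⟨h1, h2, h3⟩ := mem_fpqc_field g
  have hg : Presieve.ofArrows (fun _ : PUnit.{u + 1} => Spec (CommRingCat.of K)) (fun _ => g) ∈
      Scheme.fpqcPrecoverage (Spec (CommRingCat.of k)) := by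
    rw [Presieve.ofArrows_pUnit]
    exact g.singleton_mem_fpqcPrecoverage
  obtain ⟨M, hM, ⟨e⟩⟩ := DescAppLib.exists_descend_family f (fun _ : PUnit.{u + 1} => g) hg
    (fun T t ht => @DescAppLib.bijective_snd_appTop _ _ f _ _ (bij_app k f hH) T t ht) D (fun _ => c) (fun _ => q)
    (fun _ => H) (fun _ => Coh.structureModule _) (fun _ => MiscFlat6.isInvertible_structureModule _)
    (fun _ => (cl_eq_iff.1 hk).some)
  have h4 : CubeConsLib.cl D = 1 := by
    rw [← cl_eq_iff.2 ⟨e⟩]
    show pull f (CubeConsLib.cl M) = 1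
    rw [cl_spec_field k hM, map_one]
  calc CubeConsLib.cl L = CubeConsLib.cl L * (CubeConsLib.cl L' * d) := by rw [hd, mul_one]
    _ = CubeConsLib.cl L' * (CubeConsLib.cl L * d) := mul_left_comm _ _ _
    _ = CubeConsLib.cl L' := by rw [← hD, h4, mul_one]

variable {k : Type u} [Field k] (f : X ⟶ Spec (CommRingCat.of k))

/-- `Spec` of the structure map. -/
abbrev gK (k K : Type u) [Field k] [Field K] [Algebra k K] : Spec (CommRingCat.of K) ⟶ Spec (CommRingCat.of k) :=
  Spec.map (CommRingCat.ofHom (algebraMap k K))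

section Tower

variable (K : Type u) [Field K] [Algebra k K] (L : IntermediateField k K)

/-- The projection `X_K ⟶ X_L`. -/
def toStage : pullback f (gK k K) ⟶ pullback f (gK k L) :=
  pullback.lift (pullback.fst f (gK k K)) (pullback.snd f (gK k K) ≫ Spec.map (CommRingCat.ofHom (algebraMap L K)))
    (by
      rw [Category.assoc, ← Spec.map_comp, ← CommRingCat.ofHom_comp, ← IsScalarTower.algebraMap_eq]
      exact pullback.condition)

theorem toStage_fst : toStage f K L ≫ pullback.fst f (gK k L) = pullback.fst f (gK k K) := pullback.lift_fst _ _ _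

theorem toStage_snd : toStage f K L ≫ pullback.snd f (gK k L) =
    pullback.snd f (gK k K) ≫ Spec.map (CommRingCat.ofHom (algebraMap L K)) := pullback.lift_snd _ _ _

theorem isPullback_toStage : IsPullback (toStage f K L) (pullback.snd f (gK k K)) (pullback.snd f (gK k L))
    (Spec.map (CommRingCat.ofHom (algebraMap L K))) := by
  refine IsPullback.of_right ?_ (toStage_snd f K L) (IsPullback.of_hasPullback f (gK k L))
  rw [toStage_fst, ← Spec.map_comp, ← CommRingCat.ofHom_comp, ← IsScalarTower.algebraMap_eq]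
  exact IsPullback.of_hasPullback f (gK k K)

theorem bij_snd [QuasiCompact f] [QuasiSeparated f] (hH : Function.Bijective f.appTop) :
    Function.Bijective (pullback.snd f (gK k K)).appTop :=
  haveI := (mem_fpqc_field (gK k K)).1
  DescAppLib.bijective_snd_appTop f (bij_app k f hH) _

end Tower

/-- Every invertible class on `X_K`, `K/k` algebraic, comes from a finite subextension. -/
theorem exists_stage [CompactSpace X] [QuasiSeparatedSpace X] (K : Type u) [Field K] [Algebra k K]
    [Algebra.IsAlgebraic k K] (L' : (pullback f (gK k K)).Modules) (hL' : PicF.IsInvertible L') :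
    ∃ (L : IntermediateField k K) (_ : FiniteDimensional k L) (M : (pullback f (gK k L)).Modules),
      PicF.IsInvertible M ∧ pull (toStage f K L) (CubeConsLib.cl M) = CubeConsLib.cl L' := by
  let A := ConsLib.fgSys k K (Iso.refl (Spec (CommRingCat.of k)))
  let B := RichLib.LimBC.pb A f
  haveI : ∀ i j (b : i ⟶ j), IsAffineHom (B.D.map b) := fun _ _ b => B.affine_map b
  haveI : ∀ i, CompactSpace (B.D.obj i) := fun i => B.compactSpace_obj i
  haveI : ∀ i, QuasiSeparatedSpace (B.D.obj i) := fun i => B.quasiSeparatedSpace_obj i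
  let e0 : pullback f (gK k K) ≅ B.c.pt := (pullback.congrHom rfl (Category.comp_id _)).symm
  let F := (Scheme.Modules.pullback e0.inv).obj L'
  have hF : PicF.IsInvertible F := AmpleDevLib.isInvertible_pb e0.inv hL'
  haveI := TwistLib.isQCoh_of_isInvertible hF
  have hFl : FlatMod.IsFinLocFree F := fun x => by
    obtain ⟨U, hU, hU'⟩ := (CohCmpLib.invertible_iff_rank_one F).1 hF x
    exact ⟨U, 1, hU, hU'⟩
  have hFfp : CohB1.IsFP F := GenDescLib.isFP_of_isFinLocFree F hFl
  obtain ⟨i₀⟩ : Nonempty (ConsLib.FGSub k K)ᵒᵖ := IsCofiltered.nonempty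
  obtain ⟨φ, Fi, hFi, hFifp, ⟨eF⟩⟩ := LimHomLib.exists_descend (c := B.c) B.hc (i₀ := i₀) F hFfp
  haveI := hFi
  have hg : LimLocFreeLib.Good (fun r => r = 1) Fi (B.c.π.app φ.left) := by
    refine (LimLocFreeLib.isFinLocFreeOfRank_iff Fi 1 _).1 ((CohCmpLib.invertible_iff_rank_one _).1 ?_)
    exact HilbPolyLib.isInvertible_of_iso eF.symm hF
  obtain ⟨j, ψ, hj⟩ := (LimLocFreeLib.good_iff B.D B.c B.hc φ.left _ Fi hFifp).1 hg
  let Fj := (Scheme.Modules.pullback (B.D.map ψ)).obj Fi
  have hFj : PicF.IsInvertible Fj :=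
    (CohCmpLib.invertible_iff_rank_one _).2 ((LimLocFreeLib.isFinLocFreeOfRank_iff Fi 1 _).2 hj)
  let L : IntermediateField k K := j.unop.1.toIntermediateField' (Subalgebra.isField_of_algebraic _)
  haveI hfinL : FiniteDimensional k L := by
    haveI : Algebra.FiniteType k j.unop.1 := ⟨(Subalgebra.fg_top _).mpr j.unop.2⟩
    haveI : Algebra.IsAlgebraic k j.unop.1 := Algebra.IsAlgebraic.of_injective j.unop.1.val Subtype.val_injective
    haveI : Algebra.IsIntegral k j.unop.1 := Algebra.IsAlgebraic.isIntegral
    exact (Algebra.IsIntegral.finite : Module.Finite k j.unop.1)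
  let τ : pullback f (gK k L) ≅ B.D.obj j :=
    pullback.congrHom rfl (show gK k L = A.t j from (Category.comp_id _).symm)
  refine ⟨L, hfinL, (Scheme.Modules.pullback τ.hom).obj Fj, AmpleDevLib.isInvertible_pb τ.hom hFj, ?_⟩
  have t1 : τ.inv ≫ pullback.fst _ _ = pullback.fst f (A.t j) := by
    rw [Iso.inv_comp_eq]; exact ((pullback.lift_fst _ _ _).trans (Category.comp_id _)).symm
  have t2 : τ.inv ≫ pullback.snd _ _ = pullback.snd f (A.t j) := by
    rw [Iso.inv_comp_eq]; exact ((pullback.lift_snd _ _ _).trans (Category.comp_id _)).symm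
  have u1 : e0.hom ≫ pullback.fst f A.s = pullback.fst f _ := by
    show (pullback.congrHom rfl (Category.comp_id _)).inv ≫ _ = _
    rw [Iso.inv_comp_eq]; exact ((pullback.lift_fst _ _ _).trans (Category.comp_id _)).symm
  have u2 : e0.hom ≫ pullback.snd f A.s = pullback.snd f _ := by
    show (pullback.congrHom rfl (Category.comp_id _)).inv ≫ _ = _
    rw [Iso.inv_comp_eq]; exact ((pullback.lift_snd _ _ _).trans (Category.comp_id _)).symm
  have hcomp : toStage f K L = e0.hom ≫ B.c.π.app j ≫ τ.inv := by
    refine pullback.hom_ext ?_ ?_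
    · rw [toStage_fst, Category.assoc, Category.assoc, t1]
      exact ((congrArg (e0.hom ≫ ·) (RichLib.LimBC.pbπ_fst A f j)).trans u1).symm
    · rw [toStage_snd, Category.assoc, Category.assoc, t2]
      refine ((congrArg (e0.hom ≫ ·) (RichLib.LimBC.pbπ_snd A f j)).trans ?_).symm
      exact (Category.assoc _ _ _).symm.trans (congrArg (· ≫ A.c.π.app j) u2)
  have e1 : B.c.π.app j ≫ B.D.map ψ = B.c.π.app φ.left := B.c.w ψ
  have hA : CubeConsLib.cl Fj = pull (B.D.map ψ) (CubeConsLib.cl Fi) := rfl
  have hB : pull (B.c.π.app φ.left) (CubeConsLib.cl Fi) = pull e0.inv (CubeConsLib.cl L') :=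
    cl_eq_iff.2 ⟨eF⟩
  show pull (toStage f K L) (pull τ.hom (CubeConsLib.cl Fj)) = _
  rw [hcomp, pull_comp, Category.assoc, Category.assoc, τ.inv_hom_id, Category.comp_id, hA, pull_comp, Category.assoc,
    e1]
  exact (pull_comp _ _ _).symm.trans ((congrArg (pull e0.hom) hB).trans
    ((pull_comp _ _ _).trans (by rw [e0.hom_inv_id, DescAppLib.pull_id])))

end PicFldDescLib

end
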