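import Groth.Agent.PicFldDescLib.Basic
import Groth.Prelude.Def_PicF2
import Groth.Agent.QCohDescLib.Finite

/-!
# Galois descent of classes of line bundles, for `X` with a rational point
-/

set_option autoImplicit false
set_option maxHeartbeats 1600000
set_option maxRecDepth 8000
set_option linter.style.haveILetI false
set_option backward.isDefEq.respectTransparency false
universe u

open CategoryTheory CategoryTheory.Limits AlgebraicGeometry
open CubeConsLib (pull pull_comp pull_cl cl_eq_iff cl_eq_one_iff cl_tensor exists_inverse IsoCls)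

noncomputable section

namespace PicFldDescLib

variable {X : Scheme.{u}} {k : Type u} [Field k] (f : X ⟶ Spec (CommRingCat.of k))

theorem etale_gK (K : Type u) [Field K] [Algebra k K] [FiniteDimensional k K] [Algebra.IsSeparable k K] :
    Etale (gK k K) := by
  haveI := Algebra.FormallyEtale.of_isSeparable k K
  haveI : Algebra.FinitePresentation k K := Algebra.FinitePresentation.of_finiteType.1 inferInstance
  haveI h : Algebra.Etale k K := ⟨inferInstance, inferInstance⟩
  exact (HasRingHomProperty.Spec_iff (P := @Etale)).2 (RingHom.etale_algebraMap.2 h)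

theorem spec_alg_comp (K : Type u) [Field K] [Algebra k K] (σ : K ≃ₐ[k] K) :
    Spec.map (CommRingCat.ofHom (σ : K →+* K)) ≫ gK k K = gK k K := by
  rw [← Spec.map_comp, ← CommRingCat.ofHom_comp]
  congr 2
  ext a
  simp

/-- The graph of an automorphism in `Spec (K ⊗ K)`. -/
def graph (K : Type u) [Field K] [Algebra k K] (σ : K ≃ₐ[k] K) :
    Spec (CommRingCat.of K) ⟶ pullback (gK k K) (gK k K) :=
  pullback.lift (𝟙 _) (Spec.map (CommRingCat.ofHom (σ : K →+* K))) (by rw [Category.id_comp, spec_alg_comp])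

theorem graph_surjective (K : Type u) [Field K] [Algebra k K] [Normal k K]
    (w : ↥(pullback (gK k K) (gK k K))) : ∃ σ : K ≃ₐ[k] K, w ∈ Set.range (graph K σ) := by
  let W := pullback (gK k K) (gK k K)
  let pt := W.fromSpecResidueField w
  let κ := W.residueField w
  obtain ⟨a, ha⟩ : ∃ a : CommRingCat.of K ⟶ κ, pt ≫ pullback.fst _ _ = Spec.map a := ⟨_, (Spec.map_preimage _).symm⟩
  obtain ⟨b, hb⟩ : ∃ b : CommRingCat.of K ⟶ κ, pt ≫ pullback.snd _ _ = Spec.map b := ⟨_, (Spec.map_preimage _).symm⟩
  have hab : CommRingCat.ofHom (algebraMap k K) ≫ a = CommRingCat.ofHom (algebraMap k K) ≫ b := by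
    refine Spec.map_injective ?_
    rw [Spec.map_comp, Spec.map_comp, ← ha, ← hb, Category.assoc, Category.assoc, pullback.condition]
  let κ' : Type u := κ
  letI : Field κ' := inferInstanceAs (Field (W.residueField w))
  letI iK : Algebra K κ' := a.hom.toAlgebra
  letI ik : Algebra k κ' := (a.hom.comp (algebraMap k K)).toAlgebra
  haveI : IsScalarTower k K κ' := IsScalarTower.of_algebraMap_eq fun _ => rfl
  let b' : K →ₐ[k] κ' :=
    { (b.hom : K →+* κ') with
      commutes' := fun r => (congrArg (fun q : CommRingCat.of k ⟶ κ => q.hom r) hab).symm }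
  let σ₀ : K →ₐ[k] K := b'.restrictNormal' K
  let σ : K ≃ₐ[k] K := AlgEquiv.ofBijective σ₀ (Algebra.IsAlgebraic.algHom_bijective σ₀)
  refine ⟨σ, Spec.map a default, ?_⟩
  have hσ : ∀ y : K, a.hom (σ y) = b.hom y := fun y => AlgHom.restrictNormal_commutes b' K y
  have : Spec.map a ≫ graph K σ = pt := by
    refine pullback.hom_ext ?_ ?_
    · rw [Category.assoc, graph, pullback.lift_fst, Category.comp_id, ha]
    · rw [Category.assoc, graph, pullback.lift_snd, hb, ← Spec.map_comp]
      congr 1
      exact CommRingCat.hom_ext (RingHom.ext hσ)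
  calc graph K σ (Spec.map a default) = pt default := by rw [← Scheme.Hom.comp_apply, this]
    _ = w := by
      have := W.range_fromSpecResidueField w
      have h2 : pt default ∈ ({w} : Set W) := this ▸ Set.mem_range_self _
      exact h2

theorem toStage_twist (K : Type u) [Field K] [Algebra k K] (L : IntermediateField k K) (σ : K ≃ₐ[k] K)
    (τ : L ≃ₐ[k] L) (h : ∀ y : L, σ (algebraMap L K y) = algebraMap L K (τ y)) :
    toStage f K L ≫ PicF2.twistAut f τ = PicF2.twistAut f σ ≫ toStage f K L := by
  have A1 : ∀ (F : Type u) [Field F] [Algebra k F] (s : F ≃ₐ[k] F),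
      PicF2.twistAut f s ≫ pullback.fst f (gK k F) = pullback.fst f (gK k F) :=
    fun F _ _ s => (pullback.lift_fst _ _ _).trans (Category.comp_id _)
  have A2 : ∀ (F : Type u) [Field F] [Algebra k F] (s : F ≃ₐ[k] F), PicF2.twistAut f s ≫ pullback.snd f (gK k F) =
      pullback.snd f (gK k F) ≫ Spec.map (CommRingCat.ofHom (s : F →+* F)) :=
    fun F _ _ s => pullback.lift_snd _ _ _
  refine pullback.hom_ext ?_ ?_
  · rw [Category.assoc, A1, toStage_fst, Category.assoc, toStage_fst, A1]
  · rw [Category.assoc, A2, ← Category.assoc, toStage_snd, Category.assoc, Category.assoc, toStage_snd,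
      ← Category.assoc (PicF2.twistAut f σ), A2, Category.assoc, ← Spec.map_comp, ← Spec.map_comp,
      ← CommRingCat.ofHom_comp, ← CommRingCat.ofHom_comp]
    congr 3
    exact RingHom.ext fun y => (h y).symm

/-- Descent along a finite Galois extension. -/
theorem descend_finite [QuasiCompact f] [QuasiSeparated f] (hH : Function.Bijective f.appTop)
    (x : Spec (CommRingCat.of k) ⟶ X) (hx : x ≫ f = 𝟙 _) (K : Type u) [Field K] [Algebra k K]
    [FiniteDimensional k K] [IsGalois k K] (M : (pullback f (gK k K)).Modules) (hM : PicF.IsInvertible M)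
    (hfix : ∀ σ : K ≃ₐ[k] K, pull (PicF2.twistAut f σ) (CubeConsLib.cl M) = CubeConsLib.cl M) :
    ∃ N : X.Modules, PicF.IsInvertible N ∧ pull (pullback.fst f (gK k K)) (CubeConsLib.cl N) = CubeConsLib.cl M := by
  let g := gK k K
  obtain ⟨hg1, hg2, hg3⟩ := mem_fpqc_field g
  let s' : Spec (CommRingCat.of K) ⟶ pullback f g := pullback.lift (g ≫ x) (𝟙 _)
    (by rw [Category.assoc, hx, Category.comp_id, Category.id_comp])
  have hs'p : s' ≫ pullback.snd f g = 𝟙 _ := pullback.lift_snd _ _ _
  let B : DescAppLib.SecFam f x PUnit.{u + 1} :=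
    { Z := fun _ => Spec (CommRingCat.of K)
      F := fun _ => g
      P := fun _ => pullback f g
      mX := fun _ => pullback.fst f g
      p := fun _ => pullback.snd f g
      s := fun _ => s'
      H := fun _ => IsPullback.of_hasPullback f g
      s_p := fun _ => hs'p
      s_mX := fun _ => pullback.lift_fst _ _ _
      hσ := hx }
  haveI : ∀ a, Flat (B.F a) := fun _ => hg1
  haveI : ∀ a, QuasiCompact (B.F a) := fun _ => hg3
  have hmem : Presieve.ofArrows B.Z B.F ∈ Scheme.fpqcPrecoverage (Spec (CommRingCat.of k)) :=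
    QCohDescLib.ofArrows_mem_of_finite B.F fun y => ⟨PUnit.unit, hg2.surj y⟩
  have hbij : ∀ (T : Scheme.{u}) (t : T ⟶ Spec (CommRingCat.of k)), Flat t →
      Function.Bijective (pullback.snd f t).appTop :=
    fun T t ht => @DescAppLib.bijective_snd_appTop _ _ f _ _ (bij_app k f hH) T t ht
  let k0 : PUnit.{u + 1} := PUnit.unit
  have hs : pull s' (CubeConsLib.cl M) = 1 := cl_spec_field K (AmpleDevLib.isInvertible_pb s' hM)
  haveI := etale_gK (k := k) K
  let W := pullback g g
  let P := DescAppLib.P2 f B.F k0 k0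
  let fW : P ⟶ W := pullback.snd f _
  let σW : W ⟶ P := B.s2 k0 k0
  have hσW : σW ≫ fW = 𝟙 W := pullback.lift_snd _ _ _
  have hWbij : ∀ (T : Scheme.{u}) (t : T ⟶ W), Flat t → Function.Bijective (pullback.snd fW t).appTop := by
    intro T t _
    have H : IsPullback (pullback.fst fW t ≫ pullback.fst f (pullback.fst g g ≫ g)) (pullback.snd fW t)
        f (t ≫ pullback.fst g g ≫ g) :=
      (IsPullback.of_hasPullback fW t).paste_horiz (IsPullback.of_hasPullback f _)
    have hr : H.isoPullback.hom ≫ pullback.snd f _ = pullback.snd fW t := H.isoPullback_hom_snd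
    rw [← hr, Scheme.Hom.comp_appTop]
    haveI : IsIso H.isoPullback.hom.appTop := inferInstanceAs (IsIso (H.isoPullback.hom.app ⊤))
    exact (ConcreteCategory.bijective_of_isIso H.isoPullback.hom.appTop).comp
      (hbij T _ inferInstance)
  let γ : (K ≃ₐ[k] K) → (Spec (CommRingCat.of K) ⟶ W) := graph K
  have hγ1 : ∀ σ, γ σ ≫ pullback.fst g g = 𝟙 _ := fun σ => pullback.lift_fst _ _ _
  have hγ2 : ∀ σ, γ σ ≫ pullback.snd g g = Spec.map (CommRingCat.ofHom (σ : K →+* K)) :=
    fun σ => pullback.lift_snd _ _ _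
  have hbase : ∀ σ, γ σ ≫ pullback.fst g g ≫ g = g := fun σ => by rw [← Category.assoc, hγ1, Category.id_comp]
  let m : ∀ σ, pullback f g ⟶ P := fun σ => pullback.lift (pullback.fst f g) (pullback.snd f g ≫ γ σ)
    (by rw [Category.assoc, hbase]; exact pullback.condition)
  have hm : ∀ σ, IsPullback (m σ) (pullback.snd f g) fW (γ σ) := fun σ => by
    refine IsPullback.of_right ?_ (pullback.lift_snd _ _ _) (IsPullback.of_hasPullback f _)
    rw [show m σ ≫ pullback.fst f _ = pullback.fst f g from pullback.lift_fst _ _ _, hbase]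
    exact IsPullback.of_hasPullback f g
  have hms : ∀ σ, s' ≫ m σ = γ σ ≫ σW := fun σ => by
    refine pullback.hom_ext ?_ ?_
    · rw [Category.assoc, show m σ ≫ pullback.fst f _ = pullback.fst f g from pullback.lift_fst _ _ _,
        pullback.lift_fst, Category.assoc, show σW ≫ pullback.fst f _ = (pullback.fst g g ≫ g) ≫ x from
          pullback.lift_fst _ _ _, ← Category.assoc (γ σ), hbase]
    · rw [Category.assoc, show m σ ≫ pullback.snd f _ = pullback.snd f g ≫ γ σ from pullback.lift_snd _ _ _,
        ← Category.assoc, hs'p, Category.id_comp, Category.assoc, show σW ≫ pullback.snd f _ = 𝟙 W from hσW,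
        Category.comp_id]
  let BW : DescAppLib.SecFam fW σW (K ≃ₐ[k] K) :=
    { Z := fun _ => Spec (CommRingCat.of K)
      F := γ
      P := fun _ => pullback f g
      mX := m
      p := fun _ => pullback.snd f g
      s := fun _ => s'
      H := hm
      s_p := fun _ => hs'p
      s_mX := hms
      hσ := hσW }
  haveI : ∀ σ, Flat (BW.F σ) := fun σ => by
    show Flat (γ σ)
    haveI : Etale (γ σ ≫ pullback.fst g g) := by rw [hγ1]; infer_instance
    haveI : Etale (γ σ) := Etale.of_comp (γ σ) (pullback.fst g g)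
    infer_instance
  haveI : ∀ σ, QuasiCompact (BW.F σ) := fun σ => by
    show QuasiCompact (γ σ)
    haveI : QuasiCompact (γ σ ≫ pullback.fst g g) := by rw [hγ1]; infer_instance
    exact QuasiCompact.of_comp (γ σ) (pullback.fst g g)
  have hWmem : Presieve.ofArrows BW.Z BW.F ∈ Scheme.fpqcPrecoverage W :=
    QCohDescLib.ofArrows_mem_of_finite BW.F fun y => graph_surjective K y
  have e1 : ∀ σ, m σ ≫ B.q₁ k0 k0 = 𝟙 _ := fun σ => by
    refine pullback.hom_ext ?_ ?_
    · rw [Category.assoc, show B.q₁ k0 k0 ≫ pullback.fst f g = _ from B.q₁_mX k0 k0, Category.id_comp]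
      exact pullback.lift_fst _ _ _
    · rw [Category.assoc, show B.q₁ k0 k0 ≫ pullback.snd f g = _ from B.q₁_p k0 k0, Category.id_comp, ← Category.assoc,
        show m σ ≫ pullback.snd f _ = pullback.snd f g ≫ γ σ from pullback.lift_snd _ _ _, Category.assoc, hγ1,
        Category.comp_id]
  have e2 : ∀ σ, m σ ≫ B.q₂ k0 k0 = PicF2.twistAut f σ := fun σ => by
    refine pullback.hom_ext ?_ ?_
    · rw [Category.assoc, show B.q₂ k0 k0 ≫ pullback.fst f g = _ from B.q₂_mX k0 k0]
      exact (pullback.lift_fst _ _ _).trans ((pullback.lift_fst _ _ _).trans (Category.comp_id _)).symm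
    · rw [Category.assoc, show B.q₂ k0 k0 ≫ pullback.snd f g = _ from B.q₂_p k0 k0, ← Category.assoc,
        show m σ ≫ pullback.snd f _ = pullback.snd f g ≫ γ σ from pullback.lift_snd _ _ _, Category.assoc, hγ2]
      exact (pullback.lift_snd _ _ _).symm
  have hov : pull (B.q₁ k0 k0) (CubeConsLib.cl M) = pull (B.q₂ k0 k0) (CubeConsLib.cl M) := by
    refine DescAppLib.unique_family fW BW hWmem hWbij (AmpleDevLib.isInvertible_pb (B.q₁ k0 k0) hM)
      (AmpleDevLib.isInvertible_pb (B.q₂ k0 k0) hM) ?_ ?_ fun σ => ?_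
    · show pull σW (pull _ (CubeConsLib.cl M)) = 1
      rw [pull_comp, show σW ≫ B.q₁ k0 k0 = _ from B.s2_q₁ k0 k0, ← pull_comp]
      exact (congrArg (pull (pullback.fst g g)) hs).trans (map_one _)
    · show pull σW (pull _ (CubeConsLib.cl M)) = 1
      rw [pull_comp, show σW ≫ B.q₂ k0 k0 = _ from B.s2_q₂ k0 k0, ← pull_comp]
      exact (congrArg (pull (pullback.snd g g)) hs).trans (map_one _)
    · show pull (m σ) (pull _ (CubeConsLib.cl M)) = pull (m σ) (pull _ (CubeConsLib.cl M))
      rw [pull_comp, pull_comp, e1, e2]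
      exact (DescAppLib.pull_id (CubeConsLib.cl M)).trans (hfix σ).symm
  obtain ⟨N, hN, -, hN2⟩ := DescAppLib.exists_descend_cls f B hmem hbij (fun _ => M) (fun _ => hM)
    (fun _ => hs) (fun _ _ => hov)
  exact ⟨N, hN, hN2 k0⟩

end PicFldDescLib

end
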