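import Groth.Agent.PicFldDescLib.Basic
import Groth.Prelude.Def_Frob
import Groth.Agent.CubeLib.Glue
import Groth.Agent.AmpleThLib.Pow

/-!
# `p^e`-th powers of classes descend along finite purely inseparable extensions
-/

set_option autoImplicit false
set_option maxHeartbeats 1600000
set_option maxRecDepth 8000
set_option linter.style.haveILetI false
set_option backward.isDefEq.respectTransparency false
universe u

open CategoryTheory CategoryTheory.Limits AlgebraicGeometry
open CubeConsLib (pull pull_comp pull_cl cl_eq_iff cl_eq_one_iff cl_tensor exists_inverse IsoCls)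

noncomputable section

namespace PicFldDescLib

open AmpleLib (res GenOn) in
/-- Pulling a line bundle back along a `q`-power endomorphism gives the `q`th power. -/
theorem pullback_powEndo {X : Scheme.{u}} (g : X ⟶ X) (q : ℕ) (hle : ∀ U : X.Opens, U ≤ g ⁻¹ᵁ U)
    (happ : ∀ (U : X.Opens) (s : Γ(X, U)), (g.appLE U U (hle U)).hom s = s ^ q)
    {L : X.Modules} (hL : PicF.IsInvertible L) :
    pull g (CubeConsLib.cl L) = CubeConsLib.cl L ^ q := by
  rw [← tensorPow_eq_pow, pull_cl]
  refine cl_eq_iff.2 ?_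
  obtain ⟨φ, -⟩ := AmpleThLib.exists_iso_gens (M := KFlatLib.pb g L) (N := CohB1.tensorPow L q)
    (fun a : AmpleThLib.Gens L => a.1) (fun a => KFlatLib.puSecLE g L (hle a.1) a.2.1)
    (fun a => AmpleThLib.pS a.2.1 q) (AmpleThLib.gens_cover hL)
    (fun a => CubeLib.genOn_puSecLE g a.2.2 _) (fun a => AmpleThLib.pS_genOn a.2.2 q) fun a b V ha hb => by
      obtain ⟨c, hc⟩ := (a.2.2 V ha).2 (res L hb b.2.1)
      dsimp only at hc
      refine ⟨c ^ q, ?_, ?_⟩
      · rw [CubeLib.res_puSecLE, CubeLib.res_puSecLE, ← CubeLib.puSecLE_res g L ha (hle V),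
          ← CubeLib.puSecLE_res g L hb (hle V), ← hc, KFlatLib.puSecLE_smul, happ]
      · rw [AmpleThLib.pS_res, AmpleThLib.pS_res, ← hc, AmpleThLib.pS_smul]
  exact ⟨φ⟩

variable (p : ℕ) [Fact p.Prime]

/-- Powers of the absolute Frobenius. -/
def frobPow (X : Scheme.{u}) [FrobSch.IsCharP X p] : ℕ → (X ⟶ X)
  | 0 => 𝟙 X
  | n + 1 => frobPow X n ≫ FrobSch.frob X p

theorem frobPow_preimage (X : Scheme.{u}) [FrobSch.IsCharP X p] :
    ∀ (n : ℕ) (U : X.Opens), frobPow p X n ⁻¹ᵁ U = U
  | 0, U => rfl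
  | n + 1, U => by
    show frobPow p X n ⁻¹ᵁ (FrobSch.frob X p ⁻¹ᵁ U) = U
    rw [FrobSch.frob_preimage, frobPow_preimage X n U]

theorem frobPow_appLE (X : Scheme.{u}) [FrobSch.IsCharP X p] :
    ∀ (n : ℕ) (U : X.Opens) (s : Γ(X, U)),
      (frobPow p X n).appLE U U (frobPow_preimage p X n U).ge s = s ^ p ^ n
  | 0, U, s => by
    rw [pow_zero, pow_one]
    show (Scheme.Hom.appLE (𝟙 X) U U _) s = s
    simp [Scheme.Hom.appLE]
    erw [X.presheaf.map_id]
    rfl
  | n + 1, U, s => by
    have h1 : U ≤ FrobSch.frob X p ⁻¹ᵁ U := le_rfl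
    rw [show (frobPow p X (n + 1)).appLE U U _ =
        (FrobSch.frob X p).appLE U U h1 ≫ (frobPow p X n).appLE U U (frobPow_preimage p X n U).ge from
      (Scheme.Hom.appLE_comp_appLE _ _ U U U h1 _).symm]
    show (frobPow p X n).appLE U U _ ((FrobSch.frob X p).appLE U U h1 s) = _
    rw [show (FrobSch.frob X p).appLE U U h1 s = s ^ p from by
      rw [Scheme.Hom.appLE]; simp; erw [X.presheaf.map_id]; rfl]
    rw [map_pow, frobPow_appLE X n U s, ← pow_mul, ← pow_succ]

theorem frobPow_comp {X Y : Scheme.{u}} [FrobSch.IsCharP X p] [FrobSch.IsCharP Y p] (f : X ⟶ Y) :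
    ∀ n : ℕ, frobPow p X n ≫ f = f ≫ frobPow p Y n
  | 0 => by show 𝟙 X ≫ f = f ≫ 𝟙 Y; simp
  | n + 1 => by
    show (frobPow p X n ≫ FrobSch.frob X p) ≫ f = f ≫ frobPow p Y n ≫ FrobSch.frob Y p
    rw [Category.assoc, FrobSch.frob_comp, ← Category.assoc, frobPow_comp f n, Category.assoc]

theorem frobPow_appTop {X : Scheme.{u}} [FrobSch.IsCharP X p] :
    ∀ (n : ℕ) (s : Γ(X, ⊤)), (frobPow p X n).appTop s = s ^ p ^ n
  | 0, s => by rw [pow_zero, pow_one]; rfl
  | n + 1, s => by
    show (frobPow p X n).appTop ((FrobSch.frob X p).appTop s) = _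
    rw [FrobSch.frob_appTop, map_pow, frobPow_appTop n s, ← pow_mul, ← pow_succ]

theorem frobPow_spec (R : Type u) [CommRing R] [CharP R p] (n : ℕ)
    (φ : CommRingCat.of R ⟶ CommRingCat.of R) (h : ∀ r, φ.hom r = r ^ p ^ n) :
    frobPow p (Spec (CommRingCat.of R)) n = Spec.map φ := by
  refine ext_of_isAffine (CommRingCat.hom_ext (RingHom.ext fun s => ?_))
  obtain ⟨r, rfl⟩ : ∃ r, (Scheme.ΓSpecIso (CommRingCat.of R)).inv r = s :=
    ⟨_, (Scheme.ΓSpecIso (CommRingCat.of R)).commRingCatIsoToRingEquiv.symm_apply_apply s⟩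
  refine (frobPow_appTop p n _).trans ?_
  refine (map_pow (Scheme.ΓSpecIso (CommRingCat.of R)).inv.hom r _).symm.trans ?_
  rw [← h]
  exact congrArg (fun z => z.hom r) (Scheme.ΓSpecIso_inv_naturality φ)

variable {X : Scheme.{u}} {k : Type u} [Field k] (f : X ⟶ Spec (CommRingCat.of k))

/-- A power `p^e` of every class on `X_K` descends. -/
theorem exists_pow_descends [CharP k p] (K : Type u) [Field K] [Algebra k K] [FiniteDimensional k K]
    [IsPurelyInseparable k K] :
    ∃ e : ℕ, ∀ M : (pullback f (gK k K)).Modules, PicF.IsInvertible M →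
      ∃ C : X.Modules, PicF.IsInvertible C ∧
        pull (pullback.fst f (gK k K)) (CubeConsLib.cl C) = CubeConsLib.cl M ^ p ^ e := by
  haveI : CharP K p := charP_of_injective_ringHom (algebraMap k K).injective p
  haveI : ExpChar k p := ExpChar.prime (Fact.out : p.Prime)
  let e := IsPurelyInseparable.exponent k K
  refine ⟨e, fun M hM => ?_⟩
  let θ : K →+* k := IsPurelyInseparable.iterateFrobenius k K p (le_refl e)
  have h1 : frobPow p (Spec (CommRingCat.of k)) e =
      Spec.map (CommRingCat.ofHom θ) ≫ gK k K := by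
    rw [← Spec.map_comp]
    exact frobPow_spec p k e _ fun (r : k) =>
      IsPurelyInseparable.iterateFrobenius_algebraMap (K := k) (L := K) p (le_refl e) r
  have h2 : frobPow p (Spec (CommRingCat.of K)) e =
      gK k K ≫ Spec.map (CommRingCat.ofHom θ) := by
    rw [← Spec.map_comp]
    exact frobPow_spec p K e _ fun (r : K) =>
      IsPurelyInseparable.algebraMap_iterateFrobenius k p (le_refl e) r
  haveI : FrobSch.IsCharP X p := FrobSch.IsCharP.of_hom f p
  haveI : FrobSch.IsCharP (pullback f (gK k K)) p := FrobSch.IsCharP.of_hom (pullback.snd f (gK k K)) p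
  let ψ : X ⟶ pullback f (gK k K) :=
    pullback.lift (frobPow p X e) (f ≫ Spec.map (CommRingCat.ofHom θ))
      (by rw [frobPow_comp p f e, h1, Category.assoc])
  have hψ : pullback.fst f (gK k K) ≫ ψ = frobPow p (pullback f (gK k K)) e := by
    refine pullback.hom_ext ?_ ?_
    · rw [Category.assoc, pullback.lift_fst, frobPow_comp]
    · rw [Category.assoc, pullback.lift_snd, frobPow_comp, ← Category.assoc, pullback.condition, Category.assoc, h2]
  refine ⟨(Scheme.Modules.pullback ψ).obj M, AmpleDevLib.isInvertible_pb ψ hM, ?_⟩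
  show pull _ (pull ψ (CubeConsLib.cl M)) = _
  rw [pull_comp, hψ]
  exact pullback_powEndo _ _ (fun U => (frobPow_preimage p _ e U).ge) (fun U s => frobPow_appLE p _ e U s) hM

end PicFldDescLib

end
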